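import Mathlib

/-! The universal solution of `∑ f i * t i = 1` with one extra free variable becomes an affine space. -/

set_option autoImplicit false
set_option synthInstance.maxHeartbeats 400000
set_option maxHeartbeats 1000000
universe u

open TensorProduct MvPolynomial

noncomputable section

namespace JouanLib

variable {A : Type u} [CommRing A] {n : ℕ} (f : Fin n → A)

/-- the relation -/
def relI : Ideal (MvPolynomial (Option (Fin n)) A) := Ideal.span {∑ i, C (f i) * X (some i) - 1}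

/-- the universal algebra -/
abbrev UnitAlg : Type u := MvPolynomial (Option (Fin n)) A ⧸ relI f

/-- the coordinates -/
def var (o : Option (Fin n)) : UnitAlg f := Ideal.Quotient.mk _ (X o)

theorem sum_var : ∑ i, algebraMap A (UnitAlg f) (f i) * var f (some i) = 1 := by
  have h : Ideal.Quotient.mk (relI f) (∑ i, C (f i) * X (some i) - 1) = 0 :=
    Ideal.Quotient.eq_zero_iff_mem.2 (Ideal.subset_span rfl)
  rw [map_sub, map_one, sub_eq_zero, map_sum] at h
  simpa [var, map_mul] using! h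

theorem span_eq_top : Ideal.span (Set.range fun i => algebraMap A (UnitAlg f) (f i)) = ⊤ := by
  rw [Ideal.eq_top_iff_one, ← sum_var f]
  exact sum_mem fun i _ => Ideal.mul_mem_right _ _ (Ideal.subset_span ⟨i, rfl⟩)

section Generic

variable {B K : Type u} [CommRing B] [Algebra A B] [CommRing K] [Algebra A K]
  (v : Fin n → B) (t : Fin n → K) (s : K)

theorem sum_shift (hv : ∑ i, algebraMap A B (f i) * v i = 1) (ht : ∑ i, algebraMap A K (f i) * t i = 1) :
    ∑ i, (algebraMap A B (f i) ⊗ₜ[A] (1 : K)) * ((1 : B) ⊗ₜ[A] t i - v i ⊗ₜ[A] 1 + v i ⊗ₜ[A] s) =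
      (1 : B) ⊗ₜ[A] s := by
  simp only [mul_add, mul_sub, Algebra.TensorProduct.tmul_mul_tmul, one_mul, mul_one, Finset.sum_add_distrib,
    Finset.sum_sub_distrib, ← TensorProduct.sum_tmul, hv]
  have : ∑ i, algebraMap A B (f i) ⊗ₜ[A] t i = (1 : B) ⊗ₜ[A] (1 : K) := by
    rw [← ht, TensorProduct.tmul_sum]
    refine Finset.sum_congr rfl fun i _ => ?_
    rw [Algebra.algebraMap_eq_smul_one, ← Algebra.smul_def, TensorProduct.smul_tmul]
  rw [this, sub_self, zero_add]

theorem shift_mul (i : Fin n) :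
    (1 : B) ⊗ₜ[A] t i - v i ⊗ₜ[A] 1 + v i ⊗ₜ[A] s + v i ⊗ₜ[A] (1 : K) - (1 : B) ⊗ₜ[A] s * v i ⊗ₜ[A] (1 : K) =
      (1 : B) ⊗ₜ[A] t i := by
  rw [Algebra.TensorProduct.tmul_mul_tmul, one_mul, mul_one]
  abel

end Generic

variable {B : Type u} [CommRing B] [Algebra A B] (v : Fin n → B)

/-- the free coordinates -/
abbrev wv (i : Fin n) : MvPolynomial (ULift.{u} (Fin n)) B := X ⟨i⟩

/-- the extra coordinate -/
def sv : MvPolynomial (ULift.{u} (Fin n)) B := ∑ i, C (algebraMap A B (f i)) * wv i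

/-- the images of the coordinates -/
def img (o : Option (Fin n)) : MvPolynomial (ULift.{u} (Fin n)) B :=
  o.elim (sv f) fun i => C (v i) + wv i - sv f * C (v i)

theorem sum_img (hv : ∑ i, algebraMap A B (f i) * v i = 1) :
    ∑ i, C (algebraMap A B (f i)) * img f v (some i) = 1 := by
  have h1 : ∑ i, C (algebraMap A B (f i)) * C (v i) = (1 : MvPolynomial (ULift.{u} (Fin n)) B) := by
    simp only [← map_mul, ← map_sum, hv, map_one]
  calc _ = ∑ i, (C (algebraMap A B (f i)) * C (v i) + C (algebraMap A B (f i)) * wv i -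
        sv f * (C (algebraMap A B (f i)) * C (v i))) := Finset.sum_congr rfl fun i _ => by
          simp only [img, Option.elim]; ring
    _ = 1 := by
      rw [Finset.sum_sub_distrib, Finset.sum_add_distrib, ← Finset.mul_sum, h1, mul_one]
      exact add_sub_cancel_right _ _

theorem relI_img (hv : ∑ i, algebraMap A B (f i) * v i = 1) :
    ∀ a ∈ relI f, (aeval (img f v) : MvPolynomial (Option (Fin n)) A →ₐ[A] _) a = 0 := fun a ha => by
  refine (Ideal.span_le.2 (fun b hb => ?_) : relI f ≤ RingHom.ker (aeval (img f v) :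
    MvPolynomial (Option (Fin n)) A →ₐ[A] MvPolynomial (ULift.{u} (Fin n)) B).toRingHom) ha
  rw [Set.mem_singleton_iff] at hb
  subst hb
  show aeval (img f v) _ = 0
  simp only [map_sub, map_sum, map_mul, aeval_C, aeval_X, map_one]
  rw [sub_eq_zero]
  exact sum_img f v hv

/-- forward -/
def fwd (hv : ∑ i, algebraMap A B (f i) * v i = 1) : B ⊗[A] UnitAlg f →ₐ[B] MvPolynomial (ULift.{u} (Fin n)) B :=
  Algebra.TensorProduct.lift (Algebra.ofId B _) (Ideal.Quotient.liftₐ _ (aeval (img f v)) (relI_img f v hv))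
    fun _ _ => Commute.all _ _

/-- backward -/
def bwd : MvPolynomial (ULift.{u} (Fin n)) B →ₐ[B] B ⊗[A] UnitAlg f :=
  aeval fun i => (1 : B) ⊗ₜ[A] var f (some i.down) - v i.down ⊗ₜ[A] 1 + v i.down ⊗ₜ[A] var f none

theorem fwd_tmul (hv : ∑ i, algebraMap A B (f i) * v i = 1) (b : B) (x : MvPolynomial (Option (Fin n)) A) :
    fwd f v hv (b ⊗ₜ[A] (Ideal.Quotient.mk (relI f) x)) = C b * aeval (img f v) x :=
  Algebra.TensorProduct.lift_tmul _ _ _ _ _

theorem bwd_C (b : B) : bwd f v (C b) = b ⊗ₜ[A] (1 : UnitAlg f) := aeval_C _ _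

theorem bwd_sv (hv : ∑ i, algebraMap A B (f i) * v i = 1) : bwd f v (sv f) = (1 : B) ⊗ₜ[A] var f none := by
  rw [sv, map_sum]
  refine Eq.trans (Finset.sum_congr rfl fun i _ => ?_) (sum_shift f v (fun i => var f (some i)) (var f none) hv (sum_var f))
  rw [map_mul, bwd_C]
  exact congrArg _ (aeval_X _ _)

/-- A solution in `B` turns the base change into a polynomial ring in `n` variables. -/
def equivPoly (hv : ∑ i, algebraMap A B (f i) * v i = 1) :
    B ⊗[A] UnitAlg f ≃ₐ[B] MvPolynomial (ULift.{u} (Fin n)) B :=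
  AlgEquiv.ofAlgHom (fwd f v hv) (bwd f v)
    (by
      refine MvPolynomial.algHom_ext fun i => ?_
      obtain ⟨i⟩ := i
      show fwd f v hv (bwd f v (X ⟨i⟩)) = X ⟨i⟩
      have e : bwd f v (X ⟨i⟩) = (1 : B) ⊗ₜ[A] var f (some i) - v i ⊗ₜ[A] 1 + v i ⊗ₜ[A] var f none := aeval_X _ _
      have e1 : fwd f v hv ((v i) ⊗ₜ[A] (1 : UnitAlg f)) = C (v i) :=
        (fwd_tmul f v hv (v i) 1).trans (by rw [map_one, mul_one])
      rw [e, map_add, map_sub, e1, var, var, fwd_tmul, fwd_tmul, aeval_X, aeval_X, map_one, one_mul]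
      simp only [img, Option.elim, wv]
      ring)
    (by
      refine Algebra.TensorProduct.ext (Subsingleton.elim _ _) ?_
      refine Ideal.Quotient.algHom_ext A (MvPolynomial.algHom_ext fun o => ?_)
      show bwd f v (fwd f v hv ((1 : B) ⊗ₜ[A] Ideal.Quotient.mk (relI f) (X o))) = (1 : B) ⊗ₜ[A] var f o
      rw [fwd_tmul, aeval_X, map_one, one_mul]
      cases o with
      | none => exact bwd_sv f v hv
      | some i =>
        simp only [img, Option.elim, map_sub, map_add, map_mul, bwd_C, bwd_sv f v hv]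
        have e : bwd f v (wv i) = (1 : B) ⊗ₜ[A] var f (some i) - v i ⊗ₜ[A] 1 + v i ⊗ₜ[A] var f none := aeval_X _ _
        rw [e, add_comm (v i ⊗ₜ[A] (1 : UnitAlg f))]
        exact shift_mul v (fun i => var f (some i)) (var f none) i)

theorem equivPoly_algebraMap (hv : ∑ i, algebraMap A B (f i) * v i = 1) (b : B) :
    equivPoly f v hv (b ⊗ₜ[A] 1) = C b :=
  (equivPoly f v hv).commutes b

end JouanLib
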